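import Mathlib

/-! Independence modulo a subspace defined over a smaller field. -/

set_option autoImplicit false

universe u v w

namespace Groth.Agent.WeakAssTensorLib

/-- Extension of scalars on coefficient vectors preserves independence modulo a subspace. -/
theorem eq_zero_of_sum_mem_span {k : Type u} {K : Type v} [Field k] [Field K] (f : k →+* K) {σ : Type w}
    {ι : Type} [Fintype ι] (E : Set (σ →₀ k)) (h : ι → σ →₀ k)
    (hind : ∀ μ : ι → k, (∑ i, μ i • h i) ∈ Submodule.span k E → ∀ i, μ i = 0)
    (l : ι → K) (hl : (∑ i, l i • Finsupp.mapRange f f.map_zero (h i)) ∈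
      Submodule.span K (Finsupp.mapRange f f.map_zero '' E)) : ∀ i, l i = 0 := by
  classical
  intro i₀
  let Q := (σ →₀ k) ⧸ Submodule.span k E
  have hli : LinearIndependent k (fun i => Submodule.mkQ (Submodule.span k E) (h i)) := by
    rw [Fintype.linearIndependent_iff]
    intro μ hμ
    refine hind μ ?_
    rw [← Submodule.ker_mkQ (Submodule.span k E), LinearMap.mem_ker, map_sum]
    simpa only [map_smul] using hμ
  let b := Module.Basis.span hli
  obtain ⟨ψ, hψ⟩ := LinearMap.exists_extend (b.coord i₀)
  let φ : (σ →₀ k) →ₗ[k] k := ψ ∘ₗ Submodule.mkQ _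
  let φ' : (σ →₀ K) →ₗ[K] K := Finsupp.linearCombination K fun s => f (φ (Finsupp.single s 1))
  have hφ : ∀ v : σ →₀ k, φ' (Finsupp.mapRange f f.map_zero v) = f (φ v) := by
    intro v
    induction v using Finsupp.induction_linear with
    | zero => simp
    | add x y hx hy => rw [Finsupp.mapRange_add (hf' := fun a b => map_add f a b), map_add, map_add, map_add, hx, hy]
    | single s c =>
      rw [Finsupp.mapRange_single]
      conv_rhs => rw [show Finsupp.single s c = c • Finsupp.single s (1 : k) by simp, map_smul, smul_eq_mul, map_mul]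
      simp [φ']
  have hzero : φ' (∑ i, l i • Finsupp.mapRange f f.map_zero (h i)) = 0 := by
    refine LinearMap.mem_ker.mp (?_ : _ ∈ LinearMap.ker φ')
    refine (Submodule.span_le.mpr ?_) hl
    rintro _ ⟨e, he, rfl⟩
    rw [SetLike.mem_coe, LinearMap.mem_ker, hφ]
    simp [φ, (Submodule.Quotient.mk_eq_zero _).mpr (Submodule.subset_span he)]
  have hb : ∀ i, φ (h i) = if i = i₀ then 1 else 0 := fun i => by
    have := LinearMap.congr_fun hψ (b i)
    rw [Module.Basis.coord_apply, Module.Basis.repr_self, Finsupp.single_apply] at this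
    rw [LinearMap.comp_apply, Submodule.subtype_apply, Module.Basis.span_apply] at this
    exact this
  simpa [map_sum, hφ, hb, apply_ite f] using hzero

end Groth.Agent.WeakAssTensorLib
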