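import Groth.Agent.WeakAssTensorLib.Kernel
import Groth.Agent.WeakAssTensorLib.Coeff

/-! A finitely generated model on which independence modulo a prime persists. -/

set_option autoImplicit false
set_option maxHeartbeats 1000000
set_option linter.style.haveILetI false
set_option linter.unusedSectionVars false
set_option backward.isDefEq.respectTransparency false

universe u

open TensorProduct
open Groth.Agent

namespace Groth.Agent.WeakAssTensorLib

noncomputable section

variable {R S N : Type u} [CommRing R] [CommRing S] [Algebra R S] [AddCommGroup N] [Module S N] [Module R N]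
  [IsScalarTower R S N]

/-- The monomial with exponent `μ` in the family `x`. -/
def mon {n : ℕ} (x : Fin n → S) (μ : Fin n →₀ ℕ) : S := μ.prod fun i e => x i ^ e

theorem mon_add {n : ℕ} (x : Fin n → S) (μ ν : Fin n →₀ ℕ) : mon x (μ + ν) = mon x μ * mon x ν :=
  Finsupp.prod_add_index' (fun _ => pow_zero _) fun _ _ _ => pow_add _ _ _

theorem mem_sum_smul_mon {n : ℕ} (x : Fin n → S) (hx : Algebra.adjoin R (Set.range x) = ⊤) (s : S) :
    ∃ c : (Fin n →₀ ℕ) →₀ R, s = c.sum fun μ r => r • mon x μ := by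
  have : s ∈ (MvPolynomial.aeval (R := R) x).range := by
    rw [← Algebra.adjoin_range_eq_range_aeval, hx]; exact Algebra.mem_top
  obtain ⟨P, rfl⟩ := this
  refine ⟨Finsupp.onFinset P.support (fun μ => P.coeff μ) (fun μ h => MvPolynomial.mem_support_iff.mpr h), ?_⟩
  rw [AlgHom.toRingHom_eq_coe, RingHom.coe_coe]
  rw [Finsupp.onFinset_sum _ (fun μ => by rw [zero_smul]), MvPolynomial.aeval_def, MvPolynomial.eval₂_eq]
  refine Finset.sum_congr rfl fun μ _ => ?_
  rw [Algebra.smul_def, mon, Finsupp.prod]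

theorem exists_data [Algebra.FiniteType R S] [Module.Finite S N] (p : Ideal R) [p.IsPrime] (q : Ideal S) [q.IsPrime]
    [q.LiesOver p] :
    ∃ (R₀ : Subalgebra ℤ R) (G : Submodule R₀ N) (d : S), d ∉ q ∧ IsNoetherianRing R₀ ∧
      Submodule.span R (G : Set N) = ⊤ ∧ (∀ g ∈ G, d • g ∈ G) ∧
      ∀ {ι : Type} [Fintype ι] (y : ι → N), (∀ i, y i ∈ G) →
        (∀ c : ι → R₀, (∑ i, c i • d • y i) ∈ p.comap (algebraMap R₀ R) • G → ∀ i, (c i : R) ∈ p) →
        ∀ c : ι → R, (∃ t ∉ q, t • (∑ i, c i • y i) ∈ p • (⊤ : Submodule R N)) → ∀ i, c i ∈ p := by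
  classical
  obtain ⟨d, hdq, hd⟩ := exists_uniform (N := N) p q
  obtain ⟨n, f, hf⟩ := Algebra.FiniteType.iff_quotient_mvPolynomial''.mp ‹Algebra.FiniteType R S›
  let x : Fin n → S := fun i => f (MvPolynomial.X i)
  have hx : Algebra.adjoin R (Set.range x) = ⊤ := by
    rw [show Set.range x = f '' Set.range (MvPolynomial.X (R := R) (σ := Fin n)) from Set.range_comp f _,
      ← AlgHom.map_adjoin, MvPolynomial.adjoin_range_X, Algebra.map_top, AlgHom.range_eq_top]
    exact hf
  obtain ⟨a, gen, hgen⟩ := Module.Finite.exists_fin (R := S) (M := N)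
  let σ := Fin a × (Fin n →₀ ℕ)
  let vec : σ → N := fun s => mon x s.2 • gen s.1
  let π : (σ →₀ R) →ₗ[R] N := Finsupp.linearCombination R vec
  have hvec : Submodule.span R (Set.range vec) = ⊤ := by
    refine eq_top_iff.mpr fun m _ => ?_
    have hm : m ∈ Submodule.span S (Set.range gen) := hgen.symm ▸ Submodule.mem_top
    obtain ⟨c, rfl⟩ := (Submodule.mem_span_range_iff_exists_fun S).mp hm
    refine Submodule.sum_mem _ fun j _ => ?_
    obtain ⟨b, hb⟩ := mem_sum_smul_mon x hx (c j)
    rw [hb, Finsupp.sum, Finset.sum_smul]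
    exact Submodule.sum_mem _ fun μ _ => by
      rw [smul_assoc]; exact Submodule.smul_mem _ _ (Submodule.subset_span ⟨(j, μ), rfl⟩)
  -- the relations on the fibre
  let K := p.ResidueField
  let P := MvPolynomial (Fin n) K
  let red : (σ →₀ R) →+ (σ →₀ K) := Finsupp.mapRange.addMonoidHom (algebraMap R K).toAddMonoidHom
  let Θ : (σ →₀ K) →ₗ[K] (Fin a → P) :=
    Finsupp.linearCombination K fun s => Pi.single s.1 (MvPolynomial.monomial s.2 (1 : K))
  have hΘinj : Function.Injective Θ := by
    intro v w hvw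
    have key : ∀ (u : σ →₀ K) (s : σ), (Θ u s.1).coeff s.2 = u s := by
      intro u s
      induction u using Finsupp.induction_linear with
      | zero => simp
      | add u u' hu hu' => rw [map_add, Pi.add_apply, MvPolynomial.coeff_add, hu, hu', Finsupp.add_apply]
      | single t c =>
        obtain ⟨j, μ⟩ := t
        obtain ⟨i, ν⟩ := s
        by_cases heq : (j, μ) = (i, ν)
        · have h1 : j = i := congrArg Prod.fst heq
          have h2 : μ = ν := congrArg Prod.snd heq
          subst h1 h2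
          simp [Θ]
          erw [MvPolynomial.coeff_smul, MvPolynomial.coeff_monomial]
          simp
        · rw [Finsupp.single_eq_of_ne (fun h => heq h.symm)]
          by_cases hji : i = j
          · subst hji
            have : μ ≠ ν := fun h => heq (by rw [h])
            simp [Θ]
            erw [MvPolynomial.coeff_smul, MvPolynomial.coeff_monomial]
            simp [this]
          · simp [Θ, hji]
    exact Finsupp.ext fun s => by rw [← key v s, ← key w s, hvw]
  obtain ⟨rels', hrels', hspan⟩ := (Submodule.fg_span_iff_fg_span_finset_subset _).mp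
    (IsNoetherian.noetherian (Submodule.span P (Θ '' (red '' (LinearMap.ker π : Set (σ →₀ R))))))
  have hrels'' : ∀ r' ∈ rels', ∃ r ∈ LinearMap.ker π, Θ (red r) = r' := by
    intro r' hr'
    obtain ⟨_, ⟨r, hr, rfl⟩, rfl⟩ := hrels' (Finset.mem_coe.mpr hr')
    exact ⟨r, hr, rfl⟩
  choose! rel hrel hrel' using hrels''
  -- the small ring
  obtain ⟨cd, hcd⟩ := mem_sum_smul_mon x hx d
  let coefs : Finset R := rels'.biUnion (fun r' => (rel r').support.image (rel r')) ∪ cd.support.image cd
  let R₀ : Subalgebra ℤ R := Algebra.adjoin ℤ (coefs : Set R)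
  haveI : Algebra.FiniteType ℤ R₀ := (Subalgebra.fg_iff_finiteType R₀).mp ⟨coefs, rfl⟩
  have hnoeth : IsNoetherianRing R₀ := Algebra.FiniteType.isNoetherianRing ℤ R₀
  let G : Submodule R₀ N := Submodule.span R₀ (Set.range vec)
  have hmem₀ : ∀ {h : σ →₀ R}, (∀ s, h s ∈ R₀) → ∃ h₀ : σ →₀ R₀,
      Finsupp.mapRange (fun z : R₀ => (z : R)) rfl h₀ = h := fun {h} hh =>
    ⟨Finsupp.onFinset h.support (fun s => ⟨h s, hh s⟩)
      (fun s hs => Finsupp.mem_support_iff.mpr fun h0 => hs (Subtype.ext h0)), Finsupp.ext fun s => by simp⟩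
  have hcd₀ : ∀ μ, cd μ ∈ R₀ := fun μ => by
    by_cases h : μ ∈ cd.support
    · exact Algebra.subset_adjoin (Finset.mem_coe.mpr (Finset.mem_union_right _ (Finset.mem_image_of_mem _ h)))
    · rw [Finsupp.notMem_support_iff.mp h]; exact zero_mem _
  have hrel₀ : ∀ r' ∈ rels', ∀ s, rel r' s ∈ R₀ := fun r' hr' s => by
    by_cases h : s ∈ (rel r').support
    · exact Algebra.subset_adjoin (Finset.mem_coe.mpr (Finset.mem_union_left _
        (Finset.mem_biUnion.mpr ⟨r', hr', Finset.mem_image_of_mem _ h⟩)))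
    · rw [Finsupp.notMem_support_iff.mp h]; exact zero_mem _
  have hG : Submodule.span R (G : Set N) = ⊤ := by
    rw [eq_top_iff, ← hvec]
    exact Submodule.span_mono Submodule.subset_span
  have hdG : ∀ g ∈ G, d • g ∈ G := by
    intro g hg
    induction hg using Submodule.span_induction with
    | mem g hg =>
      obtain ⟨s, rfl⟩ := hg
      rw [hcd, Finsupp.sum, Finset.sum_smul]
      refine Submodule.sum_mem _ fun μ _ => ?_
      have : cd μ • mon x μ • vec s = (⟨cd μ, hcd₀ μ⟩ : R₀) • vec (s.1, μ + s.2) := by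
        show _ = cd μ • (mon x (μ + s.2) • gen s.1)
        rw [mon_add, mul_smul]
      rw [smul_assoc, this]
      exact Submodule.smul_mem _ _ (Submodule.subset_span ⟨_, rfl⟩)
    | zero => rw [smul_zero]; exact zero_mem _
    | add u v _ _ hu hv => rw [smul_add]; exact add_mem hu hv
    | smul c u _ hu =>
      rw [show d • c • u = c • d • u from smul_comm d (c : R) u]
      exact Submodule.smul_mem _ c hu
  refine ⟨R₀, G, d, hdq, hnoeth, hG, hdG, ?_⟩
  intro ι _ y hy hind c ht i
  -- lift to coefficient vectors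
  let inc : (σ →₀ R₀) →+ (σ →₀ R) := Finsupp.mapRange.addMonoidHom (algebraMap R₀ R).toAddMonoidHom
  have hπinc : ∀ h, π (inc h) = Finsupp.linearCombination R₀ vec h := fun h => by
    induction h using Finsupp.induction_linear with
    | zero => simp
    | add u v hu hv => rw [map_add, map_add, map_add, hu, hv]
    | single s z =>
      simp [inc, π]
      rfl
  choose h hh using fun i => (Finsupp.mem_span_range_iff_exists_finsupp).mp (hdG (y i) (hy i))
  have hhy : ∀ i, π (inc (h i)) = d • y i := fun i => by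
    rw [hπinc, ← hh i, Finsupp.linearCombination_apply]
  obtain ⟨r, hr, hrd⟩ := hd _ ht
  -- the small field
  let p₀ : Ideal R₀ := p.comap (algebraMap R₀ R)
  let k₀ := p₀.ResidueField
  let fk : k₀ →+* K := Ideal.ResidueField.map p₀ p (algebraMap R₀ R) rfl
  have hfk : ∀ z : R₀, fk (algebraMap R₀ k₀ z) = algebraMap R K (z : R) := fun z =>
    Ideal.ResidueField.map_algebraMap p₀ p (algebraMap R₀ R) rfl z
  let red₀ : (σ →₀ R₀) →+ (σ →₀ k₀) := Finsupp.mapRange.addMonoidHom (algebraMap R₀ k₀).toAddMonoidHom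
  have hred : ∀ v, Finsupp.mapRange fk fk.map_zero (red₀ v) = red (inc v) := fun v =>
    Finsupp.ext fun s => by simp [red₀, red, inc, hfk]
  let shift (μ : Fin n →₀ ℕ) : σ → σ := fun s => (s.1, μ + s.2)
  let E₀ : Set (σ →₀ k₀) := {e | ∃ h₀ : σ →₀ R₀, π (inc h₀) = 0 ∧ red₀ h₀ = e}
  let E : Submodule K (σ →₀ K) := Submodule.span K (Finsupp.mapRange fk fk.map_zero '' E₀)
  have hshift : ∀ (μ : Fin n →₀ ℕ) (e : σ →₀ K), e ∈ E → Finsupp.lmapDomain K K (shift μ) e ∈ E := by
    intro μ e he
    refine (Submodule.map_le_iff_le_comap.mp (le_refl ((E).map (Finsupp.lmapDomain K K (shift μ)))) he : _) |>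
      (fun hmem => (Submodule.map_span_le _ _ _).mpr ?_ hmem)
    rintro _ ⟨_, ⟨h₀, hh₀, rfl⟩, rfl⟩
    refine Submodule.subset_span ⟨red₀ (Finsupp.mapDomain (shift μ) h₀), ⟨_, ?_, rfl⟩, ?_⟩
    · rw [hπinc] at hh₀ ⊢
      have : Finsupp.linearCombination R₀ vec (Finsupp.mapDomain (shift μ) h₀) =
          mon x μ • Finsupp.linearCombination R₀ vec h₀ := by
        rw [Finsupp.linearCombination_mapDomain, Finsupp.linearCombination_apply, Finsupp.linearCombination_apply,
          Finsupp.smul_sum]
        refine Finsupp.sum_congr fun s _ => ?_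
        show h₀ s • (mon x (μ + s.2) • gen s.1) = mon x μ • h₀ s • mon x s.2 • gen s.1
        rw [mon_add, mul_smul, smul_comm (mon x μ) (h₀ s : R₀)]
      rw [this, hh₀, smul_zero]
    · show Finsupp.mapRange fk fk.map_zero (red₀ _) = _
      simp only [red₀, Finsupp.mapRange.addMonoidHom_apply, Finsupp.lmapDomain_apply]
      erw [← Finsupp.mapDomain_mapRange _ _ _ _ (fun u v => map_add (algebraMap R₀ k₀) u v)]
      rw [← Finsupp.mapDomain_mapRange _ _ _ _ (fun u v => map_add fk u v)]
      rfl
  have hΘsmul : ∀ (μ : Fin n →₀ ℕ) (e : σ →₀ K),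
      MvPolynomial.monomial μ (1 : K) • Θ e = Θ (Finsupp.lmapDomain K K (shift μ) e) := by
    intro μ e
    induction e using Finsupp.induction_linear with
    | zero => simp
    | add u v hu hv => rw [map_add, map_add, map_add, smul_add, hu, hv]
    | single s z =>
      rw [Finsupp.lmapDomain_apply, Finsupp.mapDomain_single]
      simp only [Θ, Finsupp.linearCombination_single]
      rw [smul_comm]
      congr 1
      funext j
      by_cases hj : j = s.1 <;> simp [shift, hj, MvPolynomial.monomial_mul]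
  have hker : ∀ v, π v = 0 → red v ∈ E := by
    intro v hv
    have h1 : Θ (red v) ∈ Submodule.span P (rels' : Set (Fin a → P)) :=
      hspan ▸ Submodule.subset_span ⟨_, ⟨v, hv, rfl⟩, rfl⟩
    have h2 : ∀ u ∈ Submodule.span P (rels' : Set (Fin a → P)), ∃ e ∈ E, Θ e = u := by
      intro u hu
      induction hu using Submodule.span_induction with
      | mem u hu =>
        obtain ⟨h₀, hh₀⟩ := hmem₀ (hrel₀ u hu)
        refine ⟨red (rel u), Submodule.subset_span ⟨red₀ h₀, ⟨h₀, ?_, rfl⟩, ?_⟩, hrel' u hu⟩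
        · rw [show inc h₀ = rel u from hh₀]; exact hrel u hu
        · rw [hred, show inc h₀ = rel u from hh₀]
      | zero => exact ⟨0, zero_mem _, map_zero _⟩
      | add u w _ _ hu hw =>
        obtain ⟨e, he, rfl⟩ := hu
        obtain ⟨e', he', rfl⟩ := hw
        exact ⟨e + e', add_mem he he', map_add _ _ _⟩
      | smul g u _ hu =>
        obtain ⟨e, he, rfl⟩ := hu
        induction g using MvPolynomial.induction_on' with
        | monomial μ z =>
          refine ⟨z • Finsupp.lmapDomain K K (shift μ) e, Submodule.smul_mem _ _ (hshift μ e he), ?_⟩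
          rw [map_smul, ← hΘsmul, show MvPolynomial.monomial μ z = z • MvPolynomial.monomial μ (1 : K) by
            rw [MvPolynomial.smul_monomial, smul_eq_mul, mul_one], smul_assoc]
        | add g g' hg hg' =>
          obtain ⟨e₁, he₁, h₁⟩ := hg
          obtain ⟨e₂, he₂, h₂⟩ := hg'
          exact ⟨e₁ + e₂, add_mem he₁ he₂, by rw [map_add, h₁, h₂, add_smul]⟩
    obtain ⟨e, he, hee⟩ := h2 _ h1
    rw [← hΘinj hee]
    exact he
  -- elements of `pN` lift to vectors vanishing on the fibre
  have hpN : r • d • (∑ i, c i • y i) ∈ (p • (⊤ : Submodule R (σ →₀ R))).map π := by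
    rw [Submodule.map_smul'', Submodule.map_top, LinearMap.range_eq_top.mpr ?_]
    · exact hrd
    · exact LinearMap.range_eq_top.mp (by rw [Finsupp.range_linearCombination, hvec])
  obtain ⟨w, hw, hwv⟩ := hpN
  have hw0 : red w = 0 := by
    refine Submodule.smul_induction_on hw (fun b hb v _ => ?_) (fun u v hu hv => by rw [map_add, hu, hv, add_zero])
    exact Finsupp.ext fun s => by
      simp only [red, Finsupp.mapRange.addMonoidHom_apply, Finsupp.mapRange_apply, Finsupp.smul_apply]
      show algebraMap R K (b * v s) = 0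
      rw [map_mul, Ideal.algebraMap_residueField_eq_zero.mpr hb, zero_mul]
  have hsum : π (∑ i, (r * c i) • inc (h i) - w) = 0 := by
    rw [map_sub, hwv, map_sum, sub_eq_zero, Finset.smul_sum, Finset.smul_sum]
    exact Finset.sum_congr rfl fun i _ => by rw [map_smul, hhy, mul_smul, smul_comm d (c i)]
  have hl : (∑ i, algebraMap R K (r * c i) • Finsupp.mapRange fk fk.map_zero (red₀ (h i))) ∈ E := by
    have := hker _ hsum
    rw [map_sub, hw0, sub_zero, map_sum] at this
    convert this using 1
    refine Finset.sum_congr rfl fun i _ => ?_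
    rw [hred]
    exact Finsupp.ext fun s => by simp [red, smul_eq_mul]
  have hind₀ : ∀ μ : ι → k₀, (∑ i, μ i • red₀ (h i)) ∈ Submodule.span k₀ E₀ → ∀ i, μ i = 0 := by
    intro μ hμ i
    have hfac : ∀ {κ : Type} [Fintype κ] (g : κ → k₀), ∃ b : R₀, b ∉ p₀ ∧ ∀ j, ∃ u : R₀,
        algebraMap R₀ k₀ u = algebraMap R₀ k₀ b * g j := by
      intro κ _ g
      obtain ⟨⟨b, hb⟩, hbg⟩ := IsLocalization.exist_integer_multiples_of_finite (nonZeroDivisors (R₀ ⧸ p₀)) g
      obtain ⟨b, rfl⟩ := Ideal.Quotient.mk_surjective b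
      refine ⟨b, fun hb0 => nonZeroDivisors.ne_zero hb (Ideal.Quotient.eq_zero_iff_mem.mpr hb0), fun j => ?_⟩
      obtain ⟨u, hu⟩ := hbg j
      obtain ⟨u, rfl⟩ := Ideal.Quotient.mk_surjective u
      exact ⟨u, hu.trans (Algebra.smul_def _ _)⟩
    have hZ : ∀ v ∈ Submodule.span k₀ E₀, ∃ (b : R₀) (h' : σ →₀ R₀), b ∉ p₀ ∧
        red₀ h' = algebraMap R₀ k₀ b • v ∧ π (inc h') = 0 := by
      intro v hv
      induction hv using Submodule.span_induction with
      | mem v hv =>
        obtain ⟨h', h1, rfl⟩ := hv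
        exact ⟨1, h', p₀.primeCompl.one_mem, by rw [map_one, one_smul], h1⟩
      | zero => exact ⟨1, 0, p₀.primeCompl.one_mem, by simp, by simp⟩
      | add u v _ _ hu hv =>
        obtain ⟨b, h1, hb, e1, z1⟩ := hu
        obtain ⟨b', h2, hb', e2, z2⟩ := hv
        refine ⟨b * b', b' • h1 + b • h2, p₀.primeCompl.mul_mem hb hb', ?_, ?_⟩
        · have hs : ∀ (z : R₀) (v : σ →₀ R₀), red₀ (z • v) = algebraMap R₀ k₀ z • red₀ v := fun z v =>
            Finsupp.ext fun s => by simp [red₀, Algebra.smul_def]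
          rw [map_add, hs, hs, e1, e2, map_mul, smul_add, mul_smul, mul_smul,
            smul_comm (algebraMap R₀ k₀ b') (algebraMap R₀ k₀ b)]
        · rw [hπinc] at z1 z2 ⊢
          rw [map_add, map_smul, map_smul, z1, z2, smul_zero, smul_zero, add_zero]
      | smul g v _ hv =>
        obtain ⟨b, h1, hb, e1, z1⟩ := hv
        obtain ⟨w, hw, hu⟩ := hfac (fun _ : Unit => g)
        obtain ⟨u, hu⟩ := hu ()
        refine ⟨w * b, u • h1, p₀.primeCompl.mul_mem hw hb, ?_, ?_⟩
        · have hs : ∀ (z : R₀) (v : σ →₀ R₀), red₀ (z • v) = algebraMap R₀ k₀ z • red₀ v := fun z v =>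
            Finsupp.ext fun s => by simp [red₀, Algebra.smul_def]
          rw [hs, e1, hu, map_mul, smul_smul, smul_smul]
          congr 1
          ring
        · rw [hπinc] at z1 ⊢
          rw [map_smul, z1, smul_zero]
    obtain ⟨β, hβ, hu⟩ := hfac μ
    choose u hu using hu
    obtain ⟨b, h', hb, e, z⟩ := hZ _ (Submodule.smul_mem _ (algebraMap R₀ k₀ β) hμ)
    have hcoef : ∀ s, h' s - ∑ j, (b * u j) * h j s ∈ p₀ := fun s => by
      rw [← Ideal.algebraMap_residueField_eq_zero, map_sub, map_sum, sub_eq_zero]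
      have := DFunLike.congr_fun e s
      simp only [red₀, Finsupp.mapRange.addMonoidHom_apply, Finsupp.mapRange_apply, Finsupp.smul_apply,
        Finsupp.coe_finsetSum, Finset.sum_apply, smul_eq_mul] at this
      refine this.trans ?_
      rw [Finset.mul_sum, Finset.mul_sum]
      refine Finset.sum_congr rfl fun j _ => ?_
      show algebraMap R₀ k₀ b * (algebraMap R₀ k₀ β * (μ j * algebraMap R₀ k₀ (h j s))) = _
      rw [map_mul, map_mul, hu j]
      ring
    have hpG : (∑ j, (b * u j) • d • y j) ∈ p₀ • G := by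
      have h1 : (∑ j, (b * u j) • d • y j) =
          Finsupp.linearCombination R₀ vec ((∑ j, (b * u j) • h j) - h') := by
        rw [map_sub, map_sum, ← hπinc h', z, sub_zero]
        exact Finset.sum_congr rfl fun j _ => by rw [map_smul, ← hπinc, hhy]
      rw [h1, Finsupp.linearCombination_apply]
      refine Submodule.sum_mem _ fun s _ => Submodule.smul_mem_smul ?_ (Submodule.subset_span ⟨s, rfl⟩)
      have := neg_mem (hcoef s)
      simpa [Finsupp.finsetSum_apply] using this
    have hui := hind _ hpG i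
    have : algebraMap R₀ k₀ (b * u i) = 0 := Ideal.algebraMap_residueField_eq_zero.mpr hui
    rw [map_mul, hu i, ← mul_assoc, mul_eq_zero] at this
    refine this.resolve_left (mul_ne_zero ?_ ?_)
    · exact fun h0 => hb (Ideal.algebraMap_residueField_eq_zero.mp h0)
    · exact fun h0 => hβ (Ideal.algebraMap_residueField_eq_zero.mp h0)
  have := eq_zero_of_sum_mem_span fk E₀ (fun i => red₀ (h i)) hind₀ (fun i => algebraMap R K (r * c i)) hl i
  exact ((Ideal.IsPrime.mem_or_mem ‹_› (Ideal.algebraMap_residueField_eq_zero.mp this)).resolve_left hr)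

end

end Groth.Agent.WeakAssTensorLib
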