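import Groth.Agent.WeakAssTensorLib.Basic
import Groth.Agent.WeakAssTensorLib.Descent
import Groth.Agent.FibAssLib.Detect
import Groth.Agent.WeakAssLib.Basic

/-! Weakly associated primes of a tensor product at a flat point. -/

set_option autoImplicit false
set_option maxHeartbeats 1000000
set_option linter.style.haveILetI false
set_option linter.unusedSectionVars false
set_option backward.isDefEq.respectTransparency false

universe u

open TensorProduct
open Groth.Agent

namespace Groth.Agent.WeakAssTensorLib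

noncomputable section

variable {R S N M : Type u} [CommRing R] [CommRing S] [Algebra R S] [AddCommGroup N] [Module S N] [Module R N]
  [IsScalarTower R S N] [AddCommGroup M] [Module R M] (p : Ideal R) [p.IsPrime] (q : Ideal S) [q.IsPrime] [q.LiesOver p]

variable (R N) in
/-- The map to the localisation. -/
abbrev loc : N →ₗ[R] LocalizedModule q.primeCompl N := (LocalizedModule.mkLinearMap q.primeCompl N).restrictScalars R

variable (R N M) in
/-- The map of tensor products to the localisation. -/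
abbrev locT : N ⊗[R] M →ₗ[S] LocalizedModule q.primeCompl N ⊗[R] M :=
  AlgebraTensorModule.rTensor R M (LocalizedModule.mkLinearMap q.primeCompl N)

theorem algebraMap_notMem {r : R} (hr : r ∉ p) : algebraMap R S r ∉ q := fun h => hr (by
  rw [Ideal.LiesOver.over (p := p) (P := q)]; exact h)

theorem eq_zero_of_smul_eq_zero {s : S} (hs : s ∉ q) {x : LocalizedModule q.primeCompl N ⊗[R] M}
    (h : s • x = 0) : x = 0 :=
  ((Module.End.isUnit_iff _).mp (IsLocalizedModule.map_units (locT R N M q) (⟨s, hs⟩ : q.primeCompl))).1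
    (h.trans (map_zero _).symm)

theorem eq_zero_of_base_smul {r : R} (hr : r ∉ p) {x : LocalizedModule q.primeCompl N ⊗[R] M}
    (h : r • x = 0) : x = 0 :=
  eq_zero_of_smul_eq_zero q (algebraMap_notMem p q hr) (by rw [algebraMap_smul]; exact h)

theorem exists_of_mem_smul_top {n : N}
    (h : loc R N q n ∈ p • (⊤ : Submodule R (LocalizedModule q.primeCompl N))) :
    ∃ t ∉ q, t • n ∈ p • (⊤ : Submodule R N) := by
  have key : ∀ y ∈ p • (⊤ : Submodule R (LocalizedModule q.primeCompl N)),
      ∃ t ∉ q, ∃ m ∈ p • (⊤ : Submodule R N), t • y = loc R N q m := by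
    intro y hy
    refine Submodule.smul_induction_on hy (fun a ha y _ => ?_) ?_
    · obtain ⟨⟨m, t⟩, hm⟩ := IsLocalizedModule.surj q.primeCompl (LocalizedModule.mkLinearMap q.primeCompl N) y
      exact ⟨t, t.2, a • m, Submodule.smul_mem_smul ha Submodule.mem_top, by
        rw [map_smul, smul_comm]; exact congrArg (a • ·) hm⟩
    · rintro y y' ⟨t, ht, m, hm, hy⟩ ⟨t', ht', m', hm', hy'⟩
      refine ⟨t * t', q.primeCompl.mul_mem ht ht', t' • m + t • m',
        add_mem (smul_mem_smul_top p t' hm) (smul_mem_smul_top p t hm'), ?_⟩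
      show _ = LocalizedModule.mkLinearMap q.primeCompl N (t' • m + t • m')
      rw [map_add, map_smul, map_smul, smul_add, mul_smul, mul_smul, smul_comm t t',
        show t • y = LocalizedModule.mkLinearMap q.primeCompl N m from hy,
        show t' • y' = LocalizedModule.mkLinearMap q.primeCompl N m' from hy']
  obtain ⟨t, ht, m, hm, htm⟩ := key _ h
  obtain ⟨c, hc⟩ := IsLocalizedModule.exists_of_eq (S := q.primeCompl)
    (f := LocalizedModule.mkLinearMap q.primeCompl N) (x₁ := t • n) (x₂ := m) (by rw [map_smul]; exact htm)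
  refine ⟨(c : S) * t, q.primeCompl.mul_mem c.2 ht, ?_⟩
  rw [mul_smul, show (c : S) • t • n = (c : S) • m from hc]
  exact smul_mem_smul_top p _ hm

theorem loc_smul (d : S) (n : N) : loc R N q (d • n) = d • loc R N q n :=
  (LocalizedModule.mkLinearMap q.primeCompl N).map_smul d n

theorem smul_locT_tmul (d : S) (n : N) (m : M) :
    d • (loc R N q n ⊗ₜ[R] m) = loc R N q (d • n) ⊗ₜ[R] m := by
  rw [TensorProduct.smul_tmul']
  rw [loc_smul]

variable {p} in
theorem exists_max_indep {R₀ : Subalgebra ℤ R} {V : Type u} [AddCommGroup V] [Module R₀ V] (G : Submodule R₀ V)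
    {k : ℕ} (g : Fin k → V) (hg : ∀ i, g i ∈ G) :
    ∃ I : Finset (Fin k),
      (∀ c : Fin k → R₀, (∑ i ∈ I, c i • g i) ∈ p.comap (algebraMap R₀ R) • G → ∀ i ∈ I, (c i : R) ∈ p) ∧
      ∀ i, ∃ (s : R₀) (c : Fin k → R₀), (s : R) ∉ p ∧
        s • g i - ∑ l ∈ I, c l • g l ∈ p.comap (algebraMap R₀ R) • G := by
  classical
  set p₀ := p.comap (algebraMap R₀ R)
  let Ind : Finset (Fin k) → Prop := fun I =>
    ∀ c : Fin k → R₀, (∑ i ∈ I, c i • g i) ∈ p₀ • G → ∀ i ∈ I, (c i : R) ∈ p
  obtain ⟨I, hI, hmax⟩ := Finset.exists_max_image (Finset.univ.filter Ind) Finset.card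
    ⟨∅, Finset.mem_filter.mpr ⟨Finset.mem_univ _, fun _ _ i hi => absurd hi (Finset.notMem_empty i)⟩⟩
  have hI : Ind I := (Finset.mem_filter.mp hI).2
  refine ⟨I, hI, fun i => ?_⟩
  by_cases hi : i ∈ I
  · refine ⟨1, fun l => if l = i then 1 else 0, by simpa using (Ideal.ne_top_iff_one p).mp (Ideal.IsPrime.ne_top ‹_›), ?_⟩
    simp [hi, ite_smul]
  · have hnot : ¬ Ind (insert i I) := fun h => by
      have := hmax (insert i I) (Finset.mem_filter.mpr ⟨Finset.mem_univ _, h⟩)
      rw [Finset.card_insert_of_notMem hi] at this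
      omega
    simp only [Ind, not_forall] at hnot
    obtain ⟨c, hc, j, hj, hjp⟩ := hnot
    rw [Finset.sum_insert hi] at hc
    have hci : (c i : R) ∉ p := fun h => by
      have h1 : c i • g i ∈ p₀ • G := Submodule.smul_mem_smul h (hg i)
      have h2 : (∑ l ∈ I, c l • g l) ∈ p₀ • G := by simpa using sub_mem hc h1
      rcases Finset.mem_insert.mp hj with rfl | hj
      · exact hjp h
      · exact hjp (hI c h2 j hj)
    exact ⟨c i, fun l => - c l, hci, by simpa [neg_smul] using hc⟩

variable [Algebra.FiniteType R S] [Module.Finite S N]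

/-- A weakly associated prime of `N ⊗ M` at a flat point lies over a weakly associated prime of `M`. -/
theorem mem_weakAss_left (hflat : FlatCA.FlatAt R q N) {z : N ⊗[R] M} (hz : WeakAssLib.Wit q z) :
    ∃ m : M, WeakAssLib.Wit p m := by
  classical
  haveI : Module.Flat R (LocalizedModule q.primeCompl N) := hflat
  obtain ⟨R₀, G, d, hd, hnoeth, hG, hdG, hdesc⟩ := exists_data (N := N) p q
  haveI := hnoeth
  let p₀ : Ideal R₀ := p.comap (algebraMap R₀ R)
  let x := locT R N M q z
  have hx : x ≠ 0 := fun h => by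
    obtain ⟨t, ht⟩ := (IsLocalizedModule.eq_zero_iff q.primeCompl (locT R N M q)).mp h
    exact t.2 (hz.le _ ht)
  have hxf : ∀ a ∈ p, ∃ n : ℕ, (a ^ n) • x = 0 := fun a ha => by
    have haq : algebraMap R S a ∈ q := by
      rw [← Ideal.mem_comap, ← Ideal.under_def, ← Ideal.LiesOver.over (p := p) (P := q)]; exact ha
    obtain ⟨s, hs, n, hn⟩ := hz.pow _ haq
    refine ⟨n, eq_zero_of_smul_eq_zero q hs ?_⟩
    rw [← algebraMap_smul S (a ^ n) x, map_pow, smul_smul, ← map_smul, hn, map_zero]
  let Sp : ℕ → Submodule R (LocalizedModule q.primeCompl N ⊗[R] M) := fun e => Submodule.span R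
    {y | ∃ g ∈ G, ∃ γ : M, (∀ a ∈ p₀ ^ e, (a : R) • γ = 0) ∧ y = loc R N q g ⊗ₜ[R] γ}
  have main : ∀ (e : ℕ) (y : LocalizedModule q.primeCompl N ⊗[R] M), y ∈ Sp e → y ≠ 0 →
      (∀ a ∈ p, ∃ n : ℕ, (a ^ n) • y = 0) → ∃ m : M, WeakAssLib.Wit p m := by
    intro e
    induction e with
    | zero =>
      intro y hy hy0 _
      refine absurd ?_ hy0
      refine (Submodule.mem_bot R).mp ((Submodule.span_le.mpr ?_) hy)
      rintro _ ⟨g, _, γ, hγ, rfl⟩
      have := hγ 1 (by simp)
      simp only [OneMemClass.coe_one, one_smul] at this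
      simp [this]
    | succ e ih =>
      intro y hy hy0 hya
      obtain ⟨k, f, gen, hgen⟩ := Submodule.mem_span_set'.mp hy
      choose g hg γ hγ hgγ using fun i => (gen i).2
      let γ' : Fin k → M := fun i => f i • γ i
      have hy' : y = ∑ i, loc R N q (g i) ⊗ₜ[R] γ' i := by
        rw [← hgen]
        exact Finset.sum_congr rfl fun i _ => by rw [hgγ i, TensorProduct.tmul_smul]
      have hγ' : ∀ i, ∀ a ∈ p₀ ^ (e + 1), (a : R) • γ' i = 0 := fun i a ha => by
        rw [smul_comm, hγ i a ha, smul_zero]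
      obtain ⟨I, hI, hrel⟩ := exists_max_indep (p := p) G (fun i => d • g i) (fun i => hdG _ (hg i))
      choose s c hs hw using hrel
      let s₀ : R₀ := ∏ i, s i
      let s' : Fin k → R₀ := fun i => ∏ j ∈ Finset.univ.erase i, s j
      have hs₀ : (s₀ : R) ∉ p := by
        simp only [s₀, SubmonoidClass.coe_finsetProd]
        exact p.primeCompl.prod_mem fun i _ => hs i
      have hss : ∀ i, s₀ = s' i * s i := fun i => (Finset.prod_erase_mul _ _ (Finset.mem_univ i)).symm
      let σ : Fin k → M := fun l => ∑ i, (((s' i * c i l : R₀) : R)) • γ' i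
      let w : Fin k → N := fun i => s' i • (s i • d • g i - ∑ l ∈ I, c i l • d • g l)
      have hwG : ∀ i, w i ∈ p₀ • G := fun i => Submodule.smul_mem _ _ (hw i)
      let y₂ := (s₀ : R) • d • y
      have hy₂0 : y₂ ≠ 0 := fun h =>
        hy0 (eq_zero_of_smul_eq_zero q hd (eq_zero_of_base_smul p q hs₀ h))
      have hy₂a : ∀ a ∈ p, ∃ n : ℕ, (a ^ n) • y₂ = 0 := fun a ha => by
        obtain ⟨n, hn⟩ := hya a ha
        exact ⟨n, by rw [smul_comm (a ^ n) (s₀ : R), smul_comm (a ^ n) d, hn, smul_zero, smul_zero]⟩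
      have hdec : y₂ = (∑ l ∈ I, loc R N q (d • g l) ⊗ₜ[R] σ l) + ∑ i, loc R N q (w i) ⊗ₜ[R] γ' i := by
        have h1 : y₂ = ∑ i, loc R N q ((s₀ : R) • d • g i) ⊗ₜ[R] γ' i := by
          simp only [y₂, hy', Finset.smul_sum, smul_locT_tmul]
          exact Finset.sum_congr rfl fun i _ => by rw [TensorProduct.smul_tmul', LinearMap.map_smul, loc_smul]
        have h2 : ∀ i, (s₀ : R) • d • g i = (∑ l ∈ I, ((s' i * c i l : R₀) : R) • d • g l) + w i := by
          intro i
          show s₀ • d • g i = (∑ l ∈ I, (s' i * c i l) • d • g l) + w i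
          simp only [w, smul_sub, Finset.smul_sum, mul_smul]
          rw [hss i, mul_smul]
          abel
        rw [h1, Finset.sum_congr rfl fun i _ => by rw [h2 i, map_add, map_sum, TensorProduct.add_tmul,
          TensorProduct.sum_tmul], Finset.sum_add_distrib, Finset.sum_comm]
        congr 1
        refine Finset.sum_congr rfl fun l _ => ?_
        simp only [σ, TensorProduct.tmul_sum]
        exact Finset.sum_congr rfl fun i _ => by rw [map_smul, TensorProduct.smul_tmul]
      have hrest : (∑ i, loc R N q (w i) ⊗ₜ[R] γ' i) ∈ Sp e := by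
        refine Submodule.sum_mem _ fun i _ => ?_
        refine Submodule.smul_induction_on (p := fun v => loc R N q v ⊗ₜ[R] γ' i ∈ Sp e) (hwG i)
          (fun a ha v hv => Submodule.subset_span ⟨v, hv, (a : R) • γ' i, fun b hb => ?_, ?_⟩)
          (fun u v hu hv => by rw [map_add, TensorProduct.add_tmul]; exact add_mem hu hv)
        · rw [smul_smul]
          exact hγ' i (b * a) (by rw [pow_succ]; exact Ideal.mul_mem_mul hb ha)
        · rw [show (a • v : N) = (a : R) • v from rfl, map_smul, TensorProduct.smul_tmul]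
      by_cases hcase : ∀ l ∈ I, ∀ a ∈ p₀ ^ e, ∃ r ∉ p, r • (a : R) • σ l = 0
      · obtain ⟨T, hT⟩ := IsNoetherian.noetherian (p₀ ^ e)
        have hTmem : ∀ a ∈ T, a ∈ p₀ ^ e := fun a ha => hT ▸ Submodule.subset_span (Finset.mem_coe.mpr ha)
        choose! r hr hrσ using hcase
        let r₀ := ∏ l ∈ I, ∏ a ∈ T, r l a
        have hr₀ : r₀ ∉ p := p.primeCompl.prod_mem fun l hl => p.primeCompl.prod_mem fun a ha => hr l hl a (hTmem a ha)
        have hσ : ∀ l ∈ I, ∀ a ∈ p₀ ^ e, (a : R) • r₀ • σ l = 0 := by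
          intro l hl a ha
          rw [← hT] at ha
          induction ha using Submodule.span_induction with
          | mem a ha =>
            have hdvd : r l a ∣ r₀ := (Finset.dvd_prod_of_mem _ (Finset.mem_coe.mp ha)).trans (Finset.dvd_prod_of_mem (fun l => ∏ a ∈ T, r l a) hl)
            obtain ⟨u, hu⟩ := hdvd
            rw [hu, mul_comm, mul_smul, smul_comm, smul_comm (a : R) (r l a), hrσ l hl a (hTmem a ha), smul_zero]
          | zero => simp
          | add a b _ _ ha hb => rw [Subalgebra.coe_add, add_smul, ha, hb, add_zero]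
          | smul b a _ ha => rw [smul_eq_mul, Subalgebra.coe_mul, mul_smul, ha, smul_zero]
        refine ih (r₀ • y₂) ?_ (fun h => hy₂0 (eq_zero_of_base_smul p q hr₀ h)) fun a ha => ?_
        · rw [hdec, smul_add, Finset.smul_sum]
          refine add_mem (Submodule.sum_mem _ fun l hl => Submodule.subset_span
            ⟨d • g l, hdG _ (hg l), r₀ • σ l, hσ l hl, ?_⟩) (Submodule.smul_mem _ _ hrest)
          rw [TensorProduct.tmul_smul]
        · obtain ⟨n, hn⟩ := hy₂a a ha
          exact ⟨n, by rw [smul_comm, hn, smul_zero]⟩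
      · push Not at hcase
        obtain ⟨l₀, hl₀, a, ha, hne⟩ := hcase
        refine ⟨(a : R) • σ l₀, fun r hr => by_contra fun h => hne r h hr, fun b hb => ?_⟩
        obtain ⟨n, hn⟩ := hy₂a b hb
        have hrest0 : (a : R) • (∑ i, loc R N q (w i) ⊗ₜ[R] γ' i) = 0 := by
          generalize (∑ i, loc R N q (w i) ⊗ₜ[R] γ' i) = v₀ at hrest
          induction hrest using Submodule.span_induction with
          | mem v hv => obtain ⟨g', _, γ₁, hγ₁, rfl⟩ := hv; rw [← TensorProduct.tmul_smul, hγ₁ a ha, TensorProduct.tmul_zero]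
          | zero => simp
          | add u v _ _ hu hv => rw [smul_add, hu, hv, add_zero]
          | smul t v _ hv => rw [smul_comm, hv, smul_zero]
        have hsum : ∑ l : I, loc R N q (d • g l) ⊗ₜ[R] ((b ^ n) • (a : R) • σ l) = 0 := by
          simp only [TensorProduct.tmul_smul, ← Finset.smul_sum]
          rw [Finset.sum_coe_sort I fun l => loc R N q (d • g l) ⊗ₜ[R] σ l]
          have : (∑ l ∈ I, loc R N q (d • g l) ⊗ₜ[R] σ l) = y₂ - ∑ i, loc R N q (w i) ⊗ₜ[R] γ' i := by
            rw [hdec, add_sub_cancel_right]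
          rw [this, smul_sub (a : R), hrest0, sub_zero, smul_comm, hn, smul_zero]
        obtain ⟨r, hr, hrl⟩ := exists_smul_eq_zero_of_indep p (fun l : I => loc R N q (d • g l))
          (fun cc hcc => by
            have hcc' : loc R N q (∑ l : I, cc l • d • g l) ∈
                p • (⊤ : Submodule R (LocalizedModule q.primeCompl N)) := by
              simpa [map_sum, map_smul] using hcc
            obtain ⟨t, ht, htm⟩ := exists_of_mem_smul_top p q hcc'
            refine hdesc (fun l : I => g l) (fun l => hg l) ?_ cc ⟨t * d, q.primeCompl.mul_mem ht hd, ?_⟩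
            · intro c' hc' l
              have := hI (fun i => if h : i ∈ I then c' ⟨i, h⟩ else 0) (by
                rw [← Finset.sum_coe_sort]
                simpa using hc') l l.2
              simpa using this
            · rw [mul_smul, Finset.smul_sum (r := d)]
              simpa [smul_comm d] using htm)
          (fun l : I => (b ^ n) • (a : R) • σ l) hsum
        exact ⟨r, hr, n, by rw [mul_smul]; exact hrl ⟨l₀, hl₀⟩⟩
  -- the starting representation
  let annI : Ideal R₀ :=
    { carrier := {a | (a : R) • x = 0}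
      zero_mem' := by simp
      add_mem' := fun {a b} (ha : (a : R) • x = 0) (hb : (b : R) • x = 0) => by
        show ((a + b : R₀) : R) • x = 0
        rw [Subalgebra.coe_add, add_smul, ha, hb, add_zero]
      smul_mem' := fun b a (ha : (a : R) • x = 0) => by
        show ((b * a : R₀) : R) • x = 0
        rw [Subalgebra.coe_mul, mul_smul, ha, smul_zero] }
  have hrad : p₀ ≤ annI.radical := fun a ha => by
    obtain ⟨n, hn⟩ := hxf _ ha
    exact ⟨n, by show ((a ^ n : R₀) : R) • x = 0; rw [SubmonoidClass.coe_pow]; exact hn⟩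
  obtain ⟨e, he⟩ := Ideal.exists_pow_le_of_le_radical_of_fg_radical hrad (IsNoetherian.noetherian _)
  obtain ⟨T, hT⟩ := IsNoetherian.noetherian (p₀ ^ e)
  obtain ⟨k, l, m, hlm, hkill⟩ := exists_killed_rep (T.image fun a : R₀ => (a : R)) x (fun a ha => by
    obtain ⟨a', ha', hh⟩ := Finset.mem_image.mp ha
    subst hh
    exact he (hT ▸ Submodule.subset_span (Finset.mem_coe.mpr ha')))
  have hkill' : ∀ i, ∀ a ∈ p₀ ^ e, (a : R) • m i = 0 := fun i a ha => by
    rw [← hT] at ha
    induction ha using Submodule.span_induction with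
    | mem a ha => exact hkill _ (Finset.mem_image_of_mem _ ha) i
    | zero => simp
    | add a b _ _ ha hb => rw [Subalgebra.coe_add, add_smul, ha, hb, add_zero]
    | smul b a _ ha => rw [smul_eq_mul, Subalgebra.coe_mul, mul_smul, ha, smul_zero]
  choose nt hnt using fun i => IsLocalizedModule.surj q.primeCompl (LocalizedModule.mkLinearMap q.primeCompl N) (l i)
  let t₀ : S := ∏ i, ((nt i).2 : S)
  have ht₀ : t₀ ∉ q := q.primeCompl.prod_mem fun i _ => (nt i).2.2
  refine main e (t₀ • x) ?_ (fun h => hx (eq_zero_of_smul_eq_zero q ht₀ h)) fun a ha => ?_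
  · rw [hlm, Finset.smul_sum]
    refine Submodule.sum_mem _ fun i _ => ?_
    have : t₀ • l i = loc R N q ((∏ j ∈ Finset.univ.erase i, ((nt j).2 : S)) • (nt i).1) := by
      show _ = LocalizedModule.mkLinearMap q.primeCompl N _
      rw [map_smul, ← hnt i, Submonoid.smul_def, smul_smul, Finset.prod_erase_mul _ _ (Finset.mem_univ i)]
    rw [TensorProduct.smul_tmul', this]
    have hn : (∏ j ∈ Finset.univ.erase i, ((nt j).2 : S)) • (nt i).1 ∈ Submodule.span R (G : Set N) :=
      hG ▸ Submodule.mem_top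
    generalize (∏ j ∈ Finset.univ.erase i, ((nt j).2 : S)) • (nt i).1 = v₀ at hn
    induction hn using Submodule.span_induction with
    | mem v hv => exact Submodule.subset_span ⟨v, hv, m i, hkill' i, rfl⟩
    | zero => simp
    | add u v _ _ hu hv => rw [map_add, TensorProduct.add_tmul]; exact add_mem hu hv
    | smul r v _ hv => rw [map_smul, ← TensorProduct.smul_tmul']; exact Submodule.smul_mem _ _ hv
  · obtain ⟨n, hn⟩ := hxf a ha
    exact ⟨n, by rw [smul_comm, hn, smul_zero]⟩

/-- A weakly associated prime of `N ⊗ M` at a flat point is associated on the fibre. -/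
theorem fiberIdeal_mem_associatedPrimes (hflat : FlatCA.FlatAt R q N) {z : N ⊗[R] M} (hz : WeakAssLib.Wit q z) :
    FlatCA.fiberIdeal p q ∈ associatedPrimes (p.Fiber S) (FlatCA.fiberMod p S N) := by
  by_contra hcon
  obtain ⟨s, hsq, hs⟩ := FibAssLib.exists_mem_regular p N q q fun P hP hle => by
    haveI := hP.1.1
    obtain ⟨hQ, hQc⟩ := FibAssLib.fiberIdeal_spec (S := S) p q
    have hcq : P.comap (CAlgFib.ι p) = q :=
      le_antisymm ((Ideal.comap_mono hP.2).trans hQc.le) hle
    exact hcon (by rw [FibAssLib.eq_fiberIdeal_of_comap p hcq]; exact hP.1)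
  have hreg : ∀ (n : ℕ) (w : N ⊗[R] M), s ^ n • w = 0 → ∃ e ∉ q, e • w = 0 := by
    intro n
    induction n with
    | zero => exact fun w hw => ⟨1, q.primeCompl.one_mem, by simpa using hw⟩
    | succ n ih =>
      intro w hw
      rw [pow_succ', mul_smul] at hw
      obtain ⟨e, he, hew⟩ := FibAssLib.exists_smul_eq_zero_of_regular q hflat p
        (Ideal.LiesOver.over (P := q)) s (fun x c hc hx => FibAssLib.regular_mod p N q hs x hc hx) hw
      rw [smul_comm] at hew
      obtain ⟨e', he', hew'⟩ := ih _ hew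
      exact ⟨e' * e, q.primeCompl.mul_mem he' he, by rw [mul_smul]; exact hew'⟩
  obtain ⟨t, ht, n, hn⟩ := hz.pow s hsq
  rw [mul_comm, mul_smul] at hn
  obtain ⟨e, he, hew⟩ := hreg n _ hn
  rw [smul_smul] at hew
  exact q.primeCompl.mul_mem he ht (hz.le _ hew)

/-- Primes associated on the fibre over a weakly associated prime are weakly associated at a flat point. -/
theorem exists_wit (hflat : FlatCA.FlatAt R q N) {m : M} (hm : WeakAssLib.Wit p m)
    (hq : FlatCA.fiberIdeal p q ∈ associatedPrimes (p.Fiber S) (FlatCA.fiberMod p S N)) :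
    ∃ z : N ⊗[R] M, WeakAssLib.Wit q z := by
  classical
  haveI : Module.Flat R (LocalizedModule q.primeCompl N) := hflat
  obtain ⟨hQ, hQc⟩ := FibAssLib.fiberIdeal_spec (S := S) p q
  obtain ⟨-, y, hy⟩ := isAssociatedPrime_iff.mp hq
  obtain ⟨r, hr, n, hn⟩ := CAlgFib.exists_factor_mod p N y
  have hyn : ∀ f : S, f ∈ q ↔ FlatCA.toFiberMod (S := S) p (N := N) (f • n) = 0 := by
    intro f
    rw [← hQc, Ideal.mem_comap, hy, map_smul, ← hn, Submodule.mem_colon_singleton, Submodule.mem_bot,
      CAlgFib.smul_eq, CAlgFib.smul_eq, smul_comm, (CAlgFib.ι_isUnit (S := S) p hr).smul_eq_zero]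
  obtain ⟨F, hFq, hF⟩ := (Submodule.fg_span_iff_fg_span_finset_subset (CAlgFib.ι (S := S) p '' (q : Set S))).mp
    (IsNoetherian.noetherian (R := p.Fiber S) (M := p.Fiber S) _)
  choose! f hf hfF using fun v (hv : v ∈ F) => hFq (Finset.mem_coe.mpr hv)
  have hrel : ∀ v ∈ F, ∃ r ∉ p, r • f v • n ∈ p • (⊤ : Submodule R N) := fun v hv =>
    (toFiberMod_eq_zero_iff' p _).mp ((hyn _).mp (hf v hv))
  choose! rv hrv hrelv using hrel
  have hfin : ∀ v ∈ F, ∃ A : Finset R, ↑A ⊆ (p : Set R) ∧
      rv v • f v • n ∈ Ideal.span (A : Set R) • (⊤ : Submodule R N) := by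
    intro v hv
    refine Submodule.smul_induction_on (hrelv v hv) (fun a ha w _ => ⟨{a}, by simpa using ha,
      Submodule.smul_mem_smul (Submodule.subset_span (by simp)) Submodule.mem_top⟩) ?_
    rintro x y ⟨A, hA, hx⟩ ⟨B, hB, hy⟩
    exact ⟨A ∪ B, by simp [hA, hB], add_mem
      (Submodule.smul_mono_left (Ideal.span_mono (by simp)) hx)
      (Submodule.smul_mono_left (Ideal.span_mono (by simp)) hy)⟩
  choose! A hAp hAmem using hfin
  let J : Ideal R := Ideal.span (F.biUnion A : Set R)
  let Im : Ideal R :=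
    { carrier := {a | ∃ t ∉ p, t • a • m = 0}
      zero_mem' := ⟨1, p.primeCompl.one_mem, by simp⟩
      add_mem' := by
        rintro a b ⟨t, ht, ha⟩ ⟨t', ht', hb⟩
        refine ⟨t * t', p.primeCompl.mul_mem ht ht', ?_⟩
        rw [add_smul, smul_add, mul_smul, mul_smul, hb, smul_zero, smul_comm t t', ha, smul_zero, add_zero]
      smul_mem' := by
        rintro c a ⟨t, ht, ha⟩
        exact ⟨t, ht, by rw [smul_eq_mul, mul_smul, smul_comm t c, ha, smul_zero]⟩ }
  have hIm : ∀ a ∈ p, ∃ j : ℕ, a ^ j ∈ Im := fun a ha => by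
    obtain ⟨t, ht, j, hj⟩ := hm.pow a ha
    exact ⟨j, t, ht, by rw [smul_smul]; exact hj⟩
  have hJp : J ≤ p := Ideal.span_le.mpr fun a ha => by
    obtain ⟨v, hv, hav⟩ := Finset.mem_biUnion.mp (Finset.mem_coe.mp ha)
    exact hAp v hv hav
  have hKex : ∃ K : ℕ, J ^ K ≤ Im :=
    Ideal.exists_pow_le_of_le_radical_of_fg (fun a ha => hIm a (hJp ha)) ⟨_, rfl⟩
  have h1 : (1 : R) ∉ Im := fun ⟨t, ht, h⟩ => ht (hm.le t (by rwa [one_smul] at h))
  have hK0 : Nat.find hKex ≠ 0 := fun h0 => h1 (by
    have := Nat.find_spec hKex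
    rw [h0, pow_zero] at this
    exact this (by simp))
  obtain ⟨K, hK⟩ := Nat.exists_eq_succ_of_ne_zero hK0
  have hnle : ¬ J ^ K ≤ Im := Nat.find_min hKex (by omega)
  obtain ⟨c, hc, hcIm⟩ := SetLike.not_le_iff_exists.mp hnle
  let z := n ⊗ₜ[R] (c • m)
  let x := locT R N M q z
  have hx : x = loc R N q n ⊗ₜ[R] (c • m) := rfl
  have hJkill : ∀ a ∈ J, a • x = 0 := fun a ha => by
    have : a * c ∈ Im := Nat.find_spec hKex (by rw [hK, pow_succ']; exact Ideal.mul_mem_mul ha hc)
    obtain ⟨t, ht, htm⟩ := this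
    refine eq_zero_of_base_smul p q ht ?_
    rw [hx, ← TensorProduct.tmul_smul, ← TensorProduct.tmul_smul, smul_smul a c m, htm, TensorProduct.tmul_zero]
  have hx0 : ∀ e ∉ q, e • x ≠ 0 := fun e he h => by
    have h0 : loc R N q n ⊗ₜ[R] (c • m) = 0 := hx ▸ eq_zero_of_smul_eq_zero q he h
    obtain ⟨t, ht, htm⟩ := exists_smul_eq_zero_of_indep p (fun _ : Unit => loc R N q n)
      (fun cc hcc _ => by_contra fun hcp => by
        have hcc' : loc R N q (cc () • n) ∈ p • (⊤ : Submodule R (LocalizedModule q.primeCompl N)) := by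
          simpa [map_smul] using hcc
        obtain ⟨t, ht, htm⟩ := exists_of_mem_smul_top p q hcc'
        have h2 : (t * algebraMap R S (cc ())) ∈ q := by
          rw [hyn, toFiberMod_eq_zero_iff']
          exact ⟨1, p.primeCompl.one_mem, by rwa [one_smul, mul_smul, algebraMap_smul]⟩
        exact q.primeCompl.mul_mem ht (algebraMap_notMem p q hcp) h2)
      (fun _ => c • m) (by simpa using h0)
    exact hcIm ⟨t, ht, htm ()⟩
  let annx : Ideal S := LinearMap.ker (LinearMap.toSpanSingleton S _ x)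
  have hann : ∀ {e : S}, e ∈ annx ↔ e • x = 0 := fun {e} => LinearMap.mem_ker
  have hfann : ∀ v ∈ F, f v ∈ annx := fun v hv => by
    rw [hann]
    refine eq_zero_of_base_smul p q (hrv v hv) ?_
    have key : ∀ w ∈ Ideal.span (A v : Set R) • (⊤ : Submodule R N), loc R N q w ⊗ₜ[R] (c • m) = 0 := by
      intro w hw
      refine Submodule.smul_induction_on hw (fun a ha w' _ => ?_)
        (fun u u' hu hu' => by rw [map_add, TensorProduct.add_tmul, hu, hu', add_zero])
      obtain ⟨t, ht, htm⟩ : a * c ∈ Im := Nat.find_spec hKex (by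
        rw [hK, pow_succ']
        exact Ideal.mul_mem_mul (Ideal.span_mono (by exact_mod_cast Finset.subset_biUnion_of_mem A hv) ha) hc)
      refine eq_zero_of_base_smul p q ht ?_
      rw [map_smul, TensorProduct.smul_tmul, ← TensorProduct.tmul_smul, smul_smul a c m, htm, TensorProduct.tmul_zero]
    rw [hx, smul_locT_tmul, TensorProduct.smul_tmul', ← map_smul]
    exact key _ (hAmem v hv)
  have hprad : ∀ a ∈ p, algebraMap R S a ∈ annx.radical := fun a ha => by
    obtain ⟨j, t, ht, hj⟩ := hIm a ha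
    refine ⟨j, hann.mpr (eq_zero_of_base_smul p q ht ?_)⟩
    rw [← map_pow, algebraMap_smul, hx, ← TensorProduct.tmul_smul, ← TensorProduct.tmul_smul, smul_comm (a ^ j) c,
      smul_comm t c, hj, smul_zero, TensorProduct.tmul_zero]
  refine ⟨z, fun e he => by_contra fun hne => hx0 e hne (by rw [← map_smul, he, map_zero]), fun g hg => ?_⟩
  have hg' : CAlgFib.ι (S := S) p g ∈ Submodule.span (p.Fiber S) (F : Set (p.Fiber S)) :=
    hF ▸ Submodule.subset_span ⟨g, hg, rfl⟩
  have hcl : ∀ u ∈ Submodule.span (p.Fiber S) (F : Set (p.Fiber S)),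
      ∃ r ∉ p, ∃ g' ∈ annx.radical, CAlgFib.ι (S := S) p (algebraMap R S r) * u = CAlgFib.ι p g' := by
    intro u hu
    induction hu using Submodule.span_induction with
    | mem u hu => exact ⟨1, p.primeCompl.one_mem, f u, Ideal.le_radical (hfann u hu), by rw [map_one, map_one, one_mul, hfF u hu]⟩
    | zero => exact ⟨1, p.primeCompl.one_mem, 0, zero_mem _, by simp⟩
    | add u u' _ _ hu hu' =>
      obtain ⟨a, ha, g₁, hg₁, e₁⟩ := hu
      obtain ⟨b, hb, g₂, hg₂, e₂⟩ := hu'
      refine ⟨a * b, p.primeCompl.mul_mem ha hb, algebraMap R S b * g₁ + algebraMap R S a * g₂,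
        add_mem (Ideal.mul_mem_left _ _ hg₁) (Ideal.mul_mem_left _ _ hg₂), ?_⟩
      simp only [map_mul, map_add]
      linear_combination CAlgFib.ι (S := S) p (algebraMap R S b) * e₁ + CAlgFib.ι (S := S) p (algebraMap R S a) * e₂
    | smul v u _ hu =>
      obtain ⟨a, ha, g₁, hg₁, e₁⟩ := hu
      obtain ⟨b, hb, w, e₂⟩ := CAlgFib.exists_factor (S := S) p v
      refine ⟨b * a, p.primeCompl.mul_mem hb ha, w * g₁, Ideal.mul_mem_left _ _ hg₁, ?_⟩
      simp only [map_mul, smul_eq_mul]
      linear_combination (CAlgFib.ι (S := S) p (algebraMap R S a) * u) * e₂ + CAlgFib.ι (S := S) p w * e₁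
  obtain ⟨a, ha, g', hg'r, he'⟩ := hcl _ hg'
  have h0 : FlatCA.toFiberMod (S := S) p (N := S) (algebraMap R S a * g - g') = 0 := by
    rw [show algebraMap R S a * g - g' = (algebraMap R S a * g - g') • (1 : S) by simp, map_smul, CAlgFib.smul_eq,
      map_sub, map_mul, he', sub_self, zero_smul]
  obtain ⟨b, hb, hbm⟩ := (toFiberMod_eq_zero_iff' p _).mp h0
  have h1 : b • (algebraMap R S a * g - g') ∈ annx.radical :=
    Submodule.smul_induction_on hbm (fun r hr w _ => by
      rw [Algebra.smul_def]; exact Ideal.mul_mem_right _ _ (hprad r hr)) (fun u v hu hv => add_mem hu hv)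
  have h2 : algebraMap R S b * algebraMap R S a * g ∈ annx.radical := by
    have := add_mem h1 (Ideal.mul_mem_left _ (algebraMap R S b) hg'r)
    rw [Algebra.smul_def] at this
    convert this using 1
    ring
  obtain ⟨j, hj⟩ := h2
  have hu : (algebraMap R S b * algebraMap R S a) ^ j ∉ q :=
    q.primeCompl.pow_mem (q.primeCompl.mul_mem (algebraMap_notMem p q hb) (algebraMap_notMem p q ha)) j
  rw [mul_pow, hann, mul_smul] at hj
  obtain ⟨t, ht⟩ := (IsLocalizedModule.eq_zero_iff q.primeCompl (locT R N M q)).mp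
    (show locT R N M q (g ^ j • z) = 0 by rw [map_smul]; exact eq_zero_of_smul_eq_zero q hu hj)
  exact ⟨t, t.2, j, by rw [mul_smul]; exact ht⟩

theorem mem_weakAss_tensor_iff (hflat : FlatCA.FlatAt R q N) :
    q ∈ FlatCA.weakAss S (N ⊗[R] M) ↔
      (p ∈ FlatCA.weakAss R M ∧ FlatCA.fiberIdeal p q ∈ associatedPrimes (p.Fiber S) (FlatCA.fiberMod p S N)) := by
  rw [WeakAssLib.mem_weakAss, WeakAssLib.mem_weakAss]
  constructor
  · rintro ⟨-, z, hz⟩
    exact ⟨⟨‹_›, mem_weakAss_left p q hflat hz⟩, fiberIdeal_mem_associatedPrimes p q hflat hz⟩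
  · rintro ⟨⟨-, m, hm⟩, hq⟩
    exact ⟨‹_›, exists_wit p q hflat hm hq⟩

end

end Groth.Agent.WeakAssTensorLib
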