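import Mathlib
import Groth.Prelude.Def_FlatCA

/-! Tensor products with flat modules: kernels of finitely many scalars, independence modulo a prime. -/

set_option autoImplicit false
set_option linter.style.haveILetI false
set_option backward.isDefEq.respectTransparency false

universe u

open TensorProduct

namespace Groth.Agent.WeakAssTensorLib

variable {R L M : Type u} [CommRing R] [AddCommGroup L] [Module R L] [AddCommGroup M] [Module R M]

theorem exists_sum_rep (x : L ⊗[R] M) : ∃ (n : ℕ) (l : Fin n → L) (m : Fin n → M), x = ∑ i, l i ⊗ₜ[R] m i := by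
  induction x using TensorProduct.induction_on with
  | zero => exact ⟨0, fun i => 0, fun i => 0, by simp⟩
  | tmul a b => exact ⟨1, fun _ => a, fun _ => b, by simp⟩
  | add x y hx hy =>
    obtain ⟨n, l, m, rfl⟩ := hx
    obtain ⟨n', l', m', rfl⟩ := hy
    exact ⟨n + n', Fin.append l l', Fin.append m m', by simp [Fin.sum_univ_add]⟩

/-- An element killed by finitely many scalars is a sum of tensors killed by them, over a flat module. -/
theorem exists_killed_rep [Module.Flat R L] (t : Finset R) :
    ∀ {M : Type u} [AddCommGroup M] [Module R M] (x : L ⊗[R] M), (∀ a ∈ t, a • x = 0) →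
      ∃ (n : ℕ) (l : Fin n → L) (m : Fin n → M), x = ∑ i, l i ⊗ₜ[R] m i ∧ ∀ a ∈ t, ∀ i, a • m i = 0 := by
  classical
  induction t using Finset.induction_on with
  | empty =>
    intro M _ _ x _
    obtain ⟨n, l, m, h⟩ := exists_sum_rep x
    exact ⟨n, l, m, h, by simp⟩
  | @insert b t hb ih =>
    intro M _ _ x hx
    let φ : M →ₗ[R] M := LinearMap.lsmul R M b
    have hx0 : φ.lTensor L x = 0 := by
      rw [← hx b (Finset.mem_insert_self b t)]
      clear hx ih
      induction x using TensorProduct.induction_on with
      | zero => simp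
      | tmul a c => simp [φ]
      | add a c ha hc => rw [map_add, ha, hc, smul_add]
    obtain ⟨x', rfl⟩ := (Module.Flat.lTensor_exact L (LinearMap.exact_subtype_ker_map φ) x).mp hx0
    have hinj : Function.Injective ((LinearMap.ker φ).subtype.lTensor L) :=
      Module.Flat.lTensor_preserves_injective_linearMap _ (LinearMap.ker φ).subtype_injective
    obtain ⟨n, l, m, hm, hk⟩ := ih x' fun a ha => hinj (by
      rw [map_smul, map_zero]; exact hx a (Finset.mem_insert_of_mem ha))
    refine ⟨n, l, fun i => (m i : M), by simp [hm], fun a ha i => ?_⟩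
    rcases Finset.mem_insert.mp ha with rfl | ha
    · exact LinearMap.mem_ker.mp (m i).2
    · exact congrArg Subtype.val (hk a ha i)

/-- The coefficients of a vanishing sum over a flat module whose first entries are independent modulo `p`
are killed outside `p`. -/
theorem exists_smul_eq_zero_of_indep [Module.Flat R L] (p : Ideal R) [p.IsPrime] {ι : Type} [Fintype ι] (y : ι → L)
    (hy : ∀ c : ι → R, (∑ i, c i • y i) ∈ p • (⊤ : Submodule R L) → ∀ i, c i ∈ p)
    (s : ι → M) (h : ∑ i, y i ⊗ₜ[R] s i = 0) : ∃ r ∉ p, ∀ i, r • s i = 0 := by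
  classical
  have hsy : ∑ i, s i ⊗ₜ[R] y i = (0 : M ⊗[R] L) := by
    have := congrArg (TensorProduct.comm R L M) h
    simpa using this
  obtain ⟨k, a, w, hyw, has⟩ := TensorProduct.vanishesTrivially_of_sum_tmul_eq_zero_of_rTensor_injective R
    (Module.Flat.rTensor_preserves_injective_linearMap _ (Submodule.subtype_injective _)) hsy
  let J := Fin k
  let K := p.ResidueField
  let A : Matrix ι J K := fun i j => algebraMap R K (a i j)
  have hA : Function.Injective A.vecMulLinear := by
    rw [injective_iff_map_eq_zero]
    intro v hv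
    obtain ⟨⟨b, hb⟩, hbv⟩ := IsLocalization.exist_integer_multiples_of_finite (nonZeroDivisors (R ⧸ p)) v
    choose c' hc' using hbv
    choose c hc using fun i => Ideal.Quotient.mk_surjective (c' i)
    have hcv : ∀ i, algebraMap R K (c i) = algebraMap (R ⧸ p) K b * v i := fun i => by
      rw [IsScalarTower.algebraMap_apply R (R ⧸ p) K, show algebraMap R (R ⧸ p) (c i) = c' i from hc i, hc' i]
      rfl
    have hmem : ∑ i, c i • y i ∈ p • (⊤ : Submodule R L) := by
      have : ∑ i, c i • y i = ∑ j, (∑ i, c i * a i j) • w j := by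
        simp only [hyw, Finset.smul_sum, Finset.sum_smul, smul_smul]
        rw [Finset.sum_comm]
      rw [this]
      refine Submodule.sum_mem _ fun j _ => Submodule.smul_mem_smul ?_ Submodule.mem_top
      rw [← Ideal.algebraMap_residueField_eq_zero (I := p), map_sum]
      have := congrFun hv j
      simp only [Matrix.vecMulLinear_apply, Matrix.vecMul, dotProduct, Pi.zero_apply] at this
      calc ∑ i, algebraMap R K (c i * a i j) = algebraMap (R ⧸ p) K b * ∑ i, v i * A i j := by
            rw [Finset.mul_sum]
            exact Finset.sum_congr rfl fun i _ => by rw [map_mul, hcv, mul_assoc]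
        _ = 0 := by rw [this, mul_zero]
    funext i
    have := (Ideal.algebraMap_residueField_eq_zero (I := p)).mpr (hy c hmem i)
    rw [hcv] at this
    refine (mul_eq_zero.mp this).resolve_left fun h0 => ?_
    exact nonZeroDivisors.ne_zero hb ((map_eq_zero_iff _ (IsFractionRing.injective (R ⧸ p) K)).mp h0)
  obtain ⟨g, hg⟩ := A.vecMulLinear.exists_leftInverse_of_injective (LinearMap.ker_eq_bot.mpr hA)
  obtain ⟨⟨b, hb⟩, hbg⟩ := IsLocalization.exist_integer_multiples_of_finite (nonZeroDivisors (R ⧸ p))
    (fun x : J × ι => g (Pi.single x.1 1) x.2)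
  choose B' hB' using hbg
  choose B hB using fun x => Ideal.Quotient.mk_surjective (B' x)
  let C : Matrix ι ι R := (Matrix.of a : Matrix ι J R) * Matrix.of fun j m => B (j, m)
  have hC : C.map (algebraMap R K) = algebraMap (R ⧸ p) K b • (1 : Matrix ι ι K) := by
    ext i m
    have h1 := congrFun (LinearMap.congr_fun hg (Pi.single i 1)) m
    simp only [LinearMap.comp_apply, LinearMap.id_apply, Matrix.vecMulLinear_apply, Matrix.single_one_vecMul] at h1
    have hrow : A i = ∑ j, A i j • (Pi.single j 1 : J → K) := by
      funext j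
      rw [Finset.sum_apply, Finset.sum_eq_single j (fun x _ hx => by simp [Pi.single_apply, Ne.symm hx])
        (fun h => absurd (Finset.mem_univ j) h)]
      simp
    have h1 : g (A i) m = (Pi.single i (1 : K) : ι → K) m := h1
    rw [hrow, map_sum, Finset.sum_apply] at h1
    simp only [map_smul, Pi.smul_apply, smul_eq_mul] at h1
    have hrhs : (algebraMap (R ⧸ p) K b • (1 : Matrix ι ι K)) i m =
        algebraMap (R ⧸ p) K b * (Pi.single i (1 : K) : ι → K) m := by
      simp [Matrix.one_apply, Pi.single_apply, eq_comm]
    rw [hrhs, ← h1, Finset.mul_sum, Matrix.map_apply]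
    simp only [C, Matrix.mul_apply, map_sum]
    refine Finset.sum_congr rfl fun j _ => ?_
    rw [map_mul, Matrix.of_apply, Matrix.of_apply,
      IsScalarTower.algebraMap_apply R (R ⧸ p) K (B (j, m)), show algebraMap R (R ⧸ p) (B (j, m)) = B' (j, m) from hB _,
      hB']
    show A i j * (b • g (Pi.single j 1) m) = _
    rw [Algebra.smul_def]
    ring
  refine ⟨C.det, fun hdet => ?_, fun m => ?_⟩
  · have h0 := (Ideal.algebraMap_residueField_eq_zero (I := p)).mpr hdet
    rw [RingHom.map_det, RingHom.mapMatrix_apply, hC, Matrix.det_smul, Matrix.det_one, mul_one] at h0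
    exact nonZeroDivisors.ne_zero hb ((map_eq_zero_iff _ (IsFractionRing.injective (R ⧸ p) K)).mp (eq_zero_of_pow_eq_zero h0))
  · have hcol : ∀ m, ∑ l, C l m • s l = 0 := fun m => by
      simp only [C, Matrix.mul_apply, Matrix.of_apply, Finset.sum_smul]
      rw [Finset.sum_comm]
      refine Finset.sum_eq_zero fun j _ => ?_
      rw [Finset.sum_congr rfl fun l _ => by rw [mul_comm, mul_smul], ← Finset.smul_sum, has j, smul_zero]
    have : ∑ l, (C * C.adjugate) l m • s l = 0 := by
      simp only [Matrix.mul_apply, Finset.sum_smul]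
      rw [Finset.sum_comm]
      refine Finset.sum_eq_zero fun j _ => ?_
      rw [Finset.sum_congr rfl fun l _ => by rw [mul_comm, mul_smul], ← Finset.smul_sum, hcol j, smul_zero]
    simpa [Matrix.mul_adjugate, Matrix.one_apply, ite_smul] using this

end Groth.Agent.WeakAssTensorLib
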