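import Groth.Agent.CAlgFib.Basic
import Groth.Agent.FibAssLib.Fibre

/-! The kernel of localisation on a fibre module is killed by one element. -/

set_option autoImplicit false
set_option linter.style.haveILetI false
set_option linter.unusedSectionVars false
set_option backward.isDefEq.respectTransparency false

universe u

open TensorProduct
open Groth.Agent

namespace Groth.Agent.WeakAssTensorLib

variable {R S N : Type u} [CommRing R] [CommRing S] [Algebra R S] [AddCommGroup N] [Module S N] [Module R N]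
  [IsScalarTower R S N]

theorem mem_smul_iff (p : Ideal R) (x : N) :
    x ∈ p.map (algebraMap R S) • (⊤ : Submodule S N) ↔ x ∈ p • (⊤ : Submodule R N) := by
  rw [← Submodule.restrictScalars_mem R, Submodule.restrictScalars_map_smul_eq, Submodule.restrictScalars_top]

theorem smul_mem_smul_top (p : Ideal R) (s : S) {x : N} (hx : x ∈ p • (⊤ : Submodule R N)) :
    s • x ∈ p • (⊤ : Submodule R N) :=
  (mem_smul_iff p _).mp (Submodule.smul_mem _ s ((mem_smul_iff p _).mpr hx))

theorem toFiberMod_eq_zero_iff' (p : Ideal R) [p.IsPrime] (n : N) :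
    FlatCA.toFiberMod (S := S) p (N := N) n = 0 ↔ ∃ r ∉ p, r • n ∈ p • (⊤ : Submodule R N) := by
  rw [CAlgFib.toFiberMod_eq_zero_iff]
  exact exists_congr fun r => and_congr_right fun _ => by rw [algebraMap_smul, mem_smul_iff]

/-- One element outside `q` moves every element of `N` vanishing at `q` on the fibre into `pN`. -/
theorem exists_uniform [Algebra.FiniteType R S] [Module.Finite S N] (p : Ideal R) [p.IsPrime] (q : Ideal S) [q.IsPrime] :
    ∃ d ∉ q, ∀ n : N, (∃ t ∉ q, t • n ∈ p • (⊤ : Submodule R N)) →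
      ∃ r ∉ p, r • d • n ∈ p • (⊤ : Submodule R N) := by
  classical
  let Kset : Submodule (p.Fiber S) (FlatCA.fiberMod p S N) :=
    { carrier := {x | ∃ t ∉ q, CAlgFib.ι p t • x = 0}
      zero_mem' := ⟨1, (Ideal.ne_top_iff_one _).mp (Ideal.IsPrime.ne_top ‹_›), smul_zero _⟩
      add_mem' := by
        rintro x y ⟨t, ht, hx⟩ ⟨t', ht', hy⟩
        refine ⟨t * t', fun h => ((Ideal.IsPrime.mem_or_mem ‹_› h).elim ht ht'), ?_⟩
        rw [smul_add, map_mul, mul_smul, mul_smul, hy, smul_zero, smul_comm, hx, smul_zero, add_zero]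
      smul_mem' := by
        rintro c x ⟨t, ht, hx⟩
        exact ⟨t, ht, by rw [smul_comm, hx, smul_zero]⟩ }
  obtain ⟨G, hG⟩ := IsNoetherian.noetherian Kset
  have hGK : ∀ g ∈ G, ∃ t ∉ q, CAlgFib.ι p t • g = 0 := fun g hg => by
    have : g ∈ Kset := hG ▸ Submodule.subset_span (Finset.mem_coe.mpr hg)
    exact this
  choose! t ht htg using hGK
  refine ⟨∏ g ∈ G, t g, fun h => ?_, fun n ⟨s, hs, hsn⟩ => ?_⟩
  · obtain ⟨g, hg, hgq⟩ := (Ideal.IsPrime.prod_mem_iff (hp := ‹q.IsPrime›)).mp h
    exact ht g hg hgq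
  · have hn : FlatCA.toFiberMod (S := S) p (N := N) n ∈ Kset := by
      refine ⟨s, hs, ?_⟩
      rw [← CAlgFib.smul_eq, ← map_smul, toFiberMod_eq_zero_iff']
      exact ⟨1, p.primeCompl.one_mem, by rwa [one_smul]⟩
    have hle : Kset ≤ LinearMap.ker (LinearMap.lsmul (p.Fiber S) (FlatCA.fiberMod p S N) (CAlgFib.ι p (∏ g ∈ G, t g))) := by
      rw [← hG, Submodule.span_le]
      intro g hg
      rw [SetLike.mem_coe, LinearMap.mem_ker, LinearMap.lsmul_apply,
        ← Finset.prod_erase_mul _ _ (Finset.mem_coe.mp hg), map_mul, mul_smul, htg g (Finset.mem_coe.mp hg), smul_zero]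
    have := LinearMap.mem_ker.mp (hle hn)
    rw [LinearMap.lsmul_apply, ← CAlgFib.smul_eq, ← map_smul, toFiberMod_eq_zero_iff'] at this
    exact this

end Groth.Agent.WeakAssTensorLib
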